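import Groth.Agent.KZ.Devissage

/-! Sequences of cokernels, and split sums. -/

set_option autoImplicit false

universe w v u

open CategoryTheory CategoryTheory.Limits

namespace Groth.Agent.Dev83

variable {A : Type u} [Category.{v} A] [Abelian A]

/-- The cokernels of a composite of monomorphisms. -/
theorem exists_compSeq {X Y W : A} (u : X ⟶ Y) (v : Y ⟶ W) [Mono u] [Mono v] (w : X ⟶ W) (h : u ≫ v = w) :
    ∃ S : ShortComplex A, S.ShortExact ∧ S.X₁ = cokernel u ∧ S.X₂ = cokernel w ∧ S.X₃ = cokernel v := by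
  subst h
  let a : cokernel u ⟶ cokernel (u ≫ v) := cokernel.desc u (v ≫ cokernel.π (u ≫ v))
    (by rw [← Category.assoc, cokernel.condition])
  let b : cokernel (u ≫ v) ⟶ cokernel v := cokernel.desc (u ≫ v) (cokernel.π v)
    (by rw [Category.assoc, cokernel.condition, comp_zero])
  have hab : a ≫ b = 0 := by ext; simp [a, b]
  haveI : Epi b := by
    have : Epi (cokernel.π (u ≫ v) ≫ b) := by simp [b]; infer_instance
    exact epi_of_epi (cokernel.π (u ≫ v)) b
  haveI : Mono a := by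
    refine Preadditive.mono_of_cancel_zero _ fun {T} x hx => ?_
    obtain ⟨T', r, hr, x', hx'⟩ := surjective_up_to_refinements_of_epi (cokernel.π u) x
    have h0 : (x' ≫ v) ≫ cokernel.π (u ≫ v) = 0 := by
      have : (x' ≫ cokernel.π u) ≫ a = 0 := by rw [← hx', Category.assoc, hx, comp_zero]
      simpa [a] using this
    let z := (KZ.shortExact_of_mono (u ≫ v)).exact.lift (x' ≫ v) h0
    have hz : z ≫ (u ≫ v) = x' ≫ v := (KZ.shortExact_of_mono (u ≫ v)).exact.lift_f _ _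
    have : x' = z ≫ u := by rw [← cancel_mono v, Category.assoc, hz]
    rw [← cancel_epi r, hx', this, Category.assoc, cokernel.condition, comp_zero, comp_zero]
  refine ⟨ShortComplex.mk a b hab, .mk' (ShortComplex.exact_of_g_is_cokernel _ ?_) ‹_› ‹_›, rfl, rfl, rfl⟩
  refine CokernelCofork.IsColimit.ofπ' _ hab fun {T} k hk => ?_
  have h1 : v ≫ cokernel.π (u ≫ v) ≫ k = 0 := by
    have : cokernel.π u ≫ a ≫ k = 0 := by rw [hk, comp_zero]
    simpa [a] using this
  exact ⟨cokernel.desc v (cokernel.π (u ≫ v) ≫ k) h1, by ext; simp [b]⟩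

/-- The cokernels of a monomorphism of short exact sequences. -/
theorem exists_cokerSeq {T S : ShortComplex A} (hT : T.ShortExact) (hS : S.ShortExact) (φ : T ⟶ S)
    [Mono φ.τ₁] [Mono φ.τ₂] [Mono φ.τ₃] :
    ∃ R : ShortComplex A, R.ShortExact ∧ R.X₁ = cokernel φ.τ₁ ∧ R.X₂ = cokernel φ.τ₂ ∧ R.X₃ = cokernel φ.τ₃ := by
  have := hT.epi_g; have := hS.mono_f; have := hS.epi_g
  let a := cokernel.map φ.τ₁ φ.τ₂ T.f S.f φ.comm₁₂
  let b := cokernel.map φ.τ₂ φ.τ₃ T.g S.g φ.comm₂₃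
  have hab : a ≫ b = 0 := by ext; simp [a, b]
  haveI : Epi b := by
    have : Epi (cokernel.π φ.τ₂ ≫ b) := by simp [b]; infer_instance
    exact epi_of_epi (cokernel.π φ.τ₂) b
  haveI : Mono a := by
    refine Preadditive.mono_of_cancel_zero _ fun {W} x hx => ?_
    obtain ⟨W', r, hr, x', hx'⟩ := surjective_up_to_refinements_of_epi (cokernel.π φ.τ₁) x
    have h0 : (x' ≫ S.f) ≫ cokernel.π φ.τ₂ = 0 := by
      have : (x' ≫ cokernel.π φ.τ₁) ≫ a = 0 := by rw [← hx', Category.assoc, hx, comp_zero]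
      simpa [a] using this
    let z := (KZ.shortExact_of_mono φ.τ₂).exact.lift (x' ≫ S.f) h0
    have hz : z ≫ φ.τ₂ = x' ≫ S.f := (KZ.shortExact_of_mono φ.τ₂).exact.lift_f _ _
    have hzg : z ≫ T.g = 0 := by
      rw [← cancel_mono φ.τ₃, Category.assoc, ← φ.comm₂₃, ← Category.assoc, hz, Category.assoc, S.zero,
        comp_zero, zero_comp]
    haveI := hT.mono_f
    let z₁ := hT.exact.lift z hzg
    have hz₁ : z₁ ≫ T.f = z := hT.exact.lift_f _ _
    have : x' = z₁ ≫ φ.τ₁ := by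
      rw [← cancel_mono S.f, Category.assoc, φ.comm₁₂, ← Category.assoc, hz₁, hz]
    rw [← cancel_epi r, hx', this, Category.assoc, cokernel.condition, comp_zero, comp_zero]
  refine ⟨ShortComplex.mk a b hab, .mk' (ShortComplex.exact_of_g_is_cokernel _ ?_) ‹_› ‹_›, rfl, rfl, rfl⟩
  refine CokernelCofork.IsColimit.ofπ' _ hab fun {W} k hk => ?_
  have h1 : S.f ≫ cokernel.π φ.τ₂ ≫ k = 0 := by
    have : cokernel.π φ.τ₁ ≫ a ≫ k = 0 := by rw [hk, comp_zero]
    simpa [a] using this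
  let d := hS.exact.desc (cokernel.π φ.τ₂ ≫ k) h1
  have hd : S.g ≫ d = cokernel.π φ.τ₂ ≫ k := hS.exact.g_desc _ _
  have h2 : φ.τ₃ ≫ d = 0 := by
    rw [← cancel_epi T.g, ← Category.assoc, ← φ.comm₂₃, Category.assoc, hd, cokernel.condition_assoc,
      zero_comp, comp_zero]
  exact ⟨cokernel.desc φ.τ₃ d h2, by ext; simp [b, hd]⟩

/-- Split a sum along a decomposition of the index set. -/
theorem exists_split {ι α β : Type w} [HasCoproductsOfShape ι A] [HasCoproductsOfShape α A]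
    [HasCoproductsOfShape β A] (F : ι → A) (e : α ⊕ β ≃ ι) :
    ∃ S : ShortComplex A, S.ShortExact ∧ S.X₁ = (∐ fun a => F (e (Sum.inl a))) ∧ S.X₂ = (∐ F) ∧
      S.X₃ = (∐ fun b => F (e (Sum.inr b))) := by
  classical
  let P := fun a => F (e (Sum.inl a))
  let R := fun b => F (e (Sum.inr b))
  let f : (∐ P) ⟶ ∐ F := Sigma.desc fun a => Sigma.ι F (e (Sum.inl a))
  let s : (∐ R) ⟶ ∐ F := Sigma.desc fun b => Sigma.ι F (e (Sum.inr b))
  let g : (∐ F) ⟶ ∐ R := Sigma.desc fun i =>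
    (eqToHom (congrArg F (e.apply_symm_apply i).symm)) ≫
      Sum.rec (motive := fun c => F (e c) ⟶ ∐ R) (fun _ => 0) (fun b => Sigma.ι R b) (e.symm i)
  let q : (∐ F) ⟶ ∐ P := Sigma.desc fun i =>
    (eqToHom (congrArg F (e.apply_symm_apply i).symm)) ≫
      Sum.rec (motive := fun c => F (e c) ⟶ ∐ P) (fun a => Sigma.ι P a) (fun _ => 0) (e.symm i)
  have hrec : ∀ {T : A} (φ : ∀ c, F (e c) ⟶ T) (c : α ⊕ β),
      eqToHom (congrArg F (e.apply_symm_apply (e c)).symm) ≫ φ (e.symm (e c)) = φ c := fun {T} φ c => by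
    have key : ∀ (d : α ⊕ β) (hd : d = c), eqToHom (congrArg (fun x => F (e x)) hd.symm) ≫ φ d = φ c := by
      rintro d rfl
      simp
    exact key _ (e.symm_apply_apply c)
  have g1 : ∀ a, Sigma.ι F (e (Sum.inl a)) ≫ g = 0 := fun a => by
    rw [Sigma.ι_desc]; exact hrec (fun c => Sum.rec (motive := fun c => F (e c) ⟶ ∐ R) (fun _ => 0) (fun b => Sigma.ι R b) c) _
  have g2 : ∀ b, Sigma.ι F (e (Sum.inr b)) ≫ g = Sigma.ι R b := fun b => by
    rw [Sigma.ι_desc]; exact hrec (fun c => Sum.rec (motive := fun c => F (e c) ⟶ ∐ R) (fun _ => 0) (fun b => Sigma.ι R b) c) _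
  have q1 : ∀ a, Sigma.ι F (e (Sum.inl a)) ≫ q = Sigma.ι P a := fun a => by
    rw [Sigma.ι_desc]; exact hrec (fun c => Sum.rec (motive := fun c => F (e c) ⟶ ∐ P) (fun a => Sigma.ι P a) (fun _ => 0) c) _
  have q2 : ∀ b, Sigma.ι F (e (Sum.inr b)) ≫ q = 0 := fun b => by
    rw [Sigma.ι_desc]; exact hrec (fun c => Sum.rec (motive := fun c => F (e c) ⟶ ∐ P) (fun a => Sigma.ι P a) (fun _ => 0) c) _
  have hfg : f ≫ g = 0 := Sigma.hom_ext _ _ fun a => by
    rw [Sigma.ι_desc_assoc, g1]; simp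
  refine ⟨ShortComplex.mk f g hfg, ShortComplex.Splitting.shortExact
    { r := q, s := s
      f_r := Sigma.hom_ext _ _ fun a => by rw [Sigma.ι_desc_assoc, q1, Category.comp_id]
      s_g := Sigma.hom_ext _ _ fun b => by rw [Sigma.ι_desc_assoc, g2, Category.comp_id]
      id := Sigma.hom_ext _ _ fun i => ?_ }, rfl, rfl, rfl⟩
  obtain ⟨c, rfl⟩ := e.surjective i
  rw [Preadditive.comp_add, Category.comp_id]
  rcases c with a | b
  · rw [← Category.assoc, ← Category.assoc, q1, g1, zero_comp, add_zero, Sigma.ι_desc]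
  · rw [← Category.assoc, ← Category.assoc, q2, g2, zero_comp, zero_add, Sigma.ι_desc]

end Groth.Agent.Dev83
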