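import Groth.Agent.Dev83.Ideal
import Groth.Agent.Dev83.Abelian

/-! Associated graded modules and their classes; comparison of two filtrations. -/

set_option autoImplicit false
set_option linter.style.haveILetI false
set_option linter.unusedSectionVars false
set_option linter.unusedVariables false
set_option backward.isDefEq.respectTransparency false
set_option backward.isDefEq.respectTransparency.types false

universe u

open CategoryTheory CategoryTheory.Limits AlgebraicGeometry TopologicalSpace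

namespace Groth.Agent.Dev83

open Groth.Agent KZ.ClosedDev Symb83

variable {X Z : Scheme.{u}} (i : Z ⟶ X) [IsClosedImmersion i]

/-- Coherent modules killed by the ideal of `Z`. -/
abbrev PK : ObjectProperty X.Modules := fun M => Coh.IsCoh M ∧ Killed i M

/-- Coherent modules supported on `Z`. -/
abbrev PS : ObjectProperty X.Modules := fun M =>
  Coh.IsCoh M ∧ ∀ x : X, Nontrivial (M.presheaf.stalk x) → x ∈ Set.range ⇑i

/-- The graded pieces. -/
noncomputable abbrev K (n : ℕ) (M : X.Modules) : X.Modules := cokernel (jι i (pow i n M))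

/-- The associated graded module. -/
noncomputable abbrev gr (M : X.Modules) : X.Modules := ∐ fun n : ULift.{u} ℕ => K i n.down M

/-- A property of modules inherited by locally finite sums. -/
def SumClosed (R : ObjectProperty X.Modules) : Prop :=
  (∀ M, R M → Coh.IsCoh M) ∧
    ∀ {ι : Type u} (F : ι → X.Modules), (∀ b, R (F b)) → LocFinSupp F → R (∐ F)

variable [IsLocallyNoetherian X]

theorem sumClosed_PK : SumClosed (PK i) := by
  refine ⟨fun M h => h.1, fun {ι} F hF hl => ?_⟩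
  have hq : ∀ b, Coh.IsQCoh (F b) := fun b => (hF b).1.1
  refine ⟨isCoh_sigma hq (fun b => (hF b).1) hl, fun U a ha s => ?_⟩
  obtain ⟨T, -, hT⟩ := exists_sum_affine hq hl U.2
  rw [← hT s, Finset.smul_sum]
  refine Finset.sum_eq_zero fun b _ => ?_
  rw [← Scheme.Modules.Hom.app_smul, (hF b).2 U a ha, map_zero]

theorem sumClosed_PS : SumClosed (PS i) := by
  refine ⟨fun M h => h.1, fun {ι} F hF hl => ?_⟩
  have hq : ∀ b, Coh.IsQCoh (F b) := fun b => (hF b).1.1
  refine ⟨isCoh_sigma hq (fun b => (hF b).1) hl, fun x hx => ?_⟩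
  obtain ⟨b, hb⟩ := support_sigma hq hl (x := x) hx
  exact (hF b).2 x hb

/-- A short complex exact on stalks is short exact. -/
theorem shortExact_of_stalks (S : ShortComplex X.Modules) (h₁ : Coh.IsQCoh S.X₁) (h₂ : Coh.IsQCoh S.X₂)
    (h : ∀ x, Function.Injective (CycLib.stalkLin S.f x) ∧
      Function.Exact (CycLib.stalkLin S.f x) (CycLib.stalkLin S.g x) ∧
      Function.Surjective (CycLib.stalkLin S.g x)) : S.ShortExact := by
  haveI : Mono S.f := mono_of_stalk_injective _ fun x => (h x).1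
  let d : cokernel S.f ⟶ S.X₃ := cokernel.desc S.f S.g S.zero
  have hd : cokernel.π S.f ≫ d = S.g := cokernel.π_desc _ _ _
  have hseq := fun x => CycLib.stalk_shortExact (KZ.shortExact_of_mono S.f) h₁ h₂ (QCoh.isQCoh_cokernel h₁ h₂ _) x
  haveI : Mono d := mono_of_stalk_injective _ fun x => (injective_iff_map_eq_zero _).2 fun a ha => by
    obtain ⟨m, rfl⟩ := (hseq x).2.2 a
    rw [← stalkLin_comp, hd] at ha
    obtain ⟨t, rfl⟩ := ((h x).2.1 m).1 ha
    rw [← stalkLin_comp, cokernel.condition, stalkLin_zero]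
  haveI : Epi d := epi_of_stalk_surjective _ fun x c => by
    obtain ⟨m, rfl⟩ := (h x).2.2 c
    exact ⟨CycLib.stalkLin (cokernel.π S.f) x m, by rw [← stalkLin_comp, hd]⟩
  haveI : IsIso d := isIso_of_mono_of_epi d
  exact ShortComplex.shortExact_of_iso (S₁ := ShortComplex.mk S.f (cokernel.π S.f) (cokernel.condition _))
    (ShortComplex.isoMk (Iso.refl _) (Iso.refl _) (asIso d) (by simp)
      (by simp only [Iso.refl_hom, Category.id_comp, asIso_hom]; exact hd.symm))
    (KZ.shortExact_of_mono S.f)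

variable {i}

/-- Sums of short exact sequences on classes. -/
theorem clSub_sum {R : ObjectProperty X.Modules} (hR : SumClosed R) {ι : Type u} (S : ι → ShortComplex X.Modules)
    (hS : ∀ b, (S b).ShortExact) (h₁ : ∀ b, R (S b).X₁) (h₂ : ∀ b, R (S b).X₂) (h₃ : ∀ b, R (S b).X₃)
    (hl : LocFinSupp fun b => (S b).X₂) :
    KZero.clSub R (∐ fun b => (S b).X₂) =
      KZero.clSub R (∐ fun b => (S b).X₁) + KZero.clSub R (∐ fun b => (S b).X₃) := by
  have q₁ : ∀ b, Coh.IsQCoh (S b).X₁ := fun b => (hR.1 _ (h₁ b)).1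
  have q₂ : ∀ b, Coh.IsQCoh (S b).X₂ := fun b => (hR.1 _ (h₂ b)).1
  have q₃ : ∀ b, Coh.IsQCoh (S b).X₃ := fun b => (hR.1 _ (h₃ b)).1
  have hex := fun b x => CycLib.stalk_shortExact (hS b) (q₁ b) (q₂ b) (q₃ b) x
  have hl₁ : LocFinSupp fun b => (S b).X₁ := locFinSupp_reindex id Function.injective_id
    (fun b y hy => by haveI := hy; exact (hex b y).1.nontrivial) hl
  have hl₃ : LocFinSupp fun b => (S b).X₃ := locFinSupp_reindex id Function.injective_id
    (fun b y hy => by haveI := hy; exact (hex b y).2.2.nontrivial) hl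
  let T : ShortComplex X.Modules := ShortComplex.mk (sumMap fun b => (S b).f) (sumMap fun b => (S b).g)
    (Sigma.hom_ext _ _ fun b => by simp [sumMap])
  have hT : T.ShortExact := shortExact_of_stalks T (isQCoh_sigma q₁) (isQCoh_sigma q₂) fun x =>
    sumMap_shortExact q₁ hl₁ q₂ hl x q₃ hl₃ (fun b => (S b).f) (fun b => (S b).g) (fun b => (hex b x).1)
      (fun b => (hex b x).2.1) fun b => (hex b x).2.2
  exact KZ.clSub_ses R hT (hR.2 _ h₁ hl₁) (hR.2 _ h₂ hl) (hR.2 _ h₃ hl₃)

theorem clSub_split {R : ObjectProperty X.Modules} (hR : SumClosed R) {ι α β : Type u} (F : ι → X.Modules)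
    (hF : ∀ b, R (F b)) (hl : LocFinSupp F) (e : α ⊕ β ≃ ι) :
    KZero.clSub R (∐ F) = KZero.clSub R (∐ fun a => F (e (Sum.inl a))) +
      KZero.clSub R (∐ fun b => F (e (Sum.inr b))) := by
  obtain ⟨S, hS, e1, e2, e3⟩ := exists_split F e
  have h := KZ.clSub_ses R hS (e1 ▸ hR.2 _ (fun a => hF _)
      (locFinSupp_reindex _ (e.injective.comp Sum.inl_injective) (fun _ _ h => h) hl)) (e2 ▸ hR.2 _ hF hl)
    (e3 ▸ hR.2 _ (fun a => hF _) (locFinSupp_reindex _ (e.injective.comp Sum.inr_injective) (fun _ _ h => h) hl))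
  rwa [e1, e2, e3] at h

variable (i)

theorem pk_le_ps {M : X.Modules} (h : PK i M) : PS i M := by
  refine ⟨h.1, fun x hx => ?_⟩
  haveI := (QCoh.isIso_unit_closed_iff i h.1.1).2 h.2
  let e := asIso ((Scheme.Modules.pullbackPushforwardAdjunction i).unit.app M)
  haveI : Nontrivial (M.presheaf.stalk x) := hx
  haveI := Function.Injective.nontrivial (α := M.presheaf.stalk x) (stalkLin_bijective_of_iso e x).1
  exact QCoh.support_push_subset i (isCoh_pull i h.1).1
    (not_subsingleton_iff_nontrivial.2 this : x ∈ CohB1.support ((Coh.push i).obj _))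

theorem ps_of_mono {M N : X.Modules} (f : N ⟶ M) [Mono f] (hN : Coh.IsCoh N) (hM : PS i M) : PS i N :=
  ⟨hN, fun x hx => hM.2 x (not_subsingleton_iff_nontrivial.1
    (QCoh.mem_support_of_mono hN.1 hM.1.1 f (not_subsingleton_iff_nontrivial.2 hx : x ∈ CohB1.support N)))⟩

theorem stalk_injective_of_mono {M N : X.Modules} (f : N ⟶ M) [Mono f] (hN : Coh.IsQCoh N) (hM : Coh.IsQCoh M)
    (x : X) : Function.Injective (CycLib.stalkLin f x) :=
  (CycLib.stalk_shortExact (KZ.shortExact_of_mono f) hN hM (QCoh.isQCoh_cokernel hN hM f) x).1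

theorem pk_K {M : X.Modules} (hM : Coh.IsCoh M) (n : ℕ) : PK i (K i n M) :=
  ⟨QCoh.isCoh_cokernel (isCoh_J i (isCoh_pow i hM n)).1 (isCoh_pow i hM n) _, killed_coker i (isCoh_pow i hM n)⟩

theorem pk_of_mono {A B : X.Modules} (f : A ⟶ B) [Mono f] (hA : Coh.IsCoh A) (hB : PK i B) : PK i A :=
  ⟨hA, hB.2.of_mono i f⟩

theorem pk_of_epi {A B : X.Modules} (f : A ⟶ B) [Epi f] (hB : Coh.IsCoh B) (hA : PK i A) : PK i B :=
  ⟨hB, hA.2.of_epi i f hA.1.1 hB.1⟩

/-- A decreasing filtration with killed factors which is locally finite. -/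
structure Filtr (F : ℕ → X.Modules) (f : ∀ m, F (m + 1) ⟶ F m) : Prop where
  ps : PS i (F 0)
  coh : ∀ m, Coh.IsCoh (F m)
  mono : ∀ m, Mono (f m)
  killed : ∀ m, Killed i (cokernel (f m))
  bdd : ∀ x : X, ∃ W : Set X, IsOpen W ∧ x ∈ W ∧ ∃ N : ℕ, ∀ m, N ≤ m → ∀ y ∈ W, Subsingleton ((F m).presheaf.stalk y)

/-- The lift of `J^{n+1} F_m` to `J^n F_{m+1}`. -/
noncomputable def liftPow {M N : X.Modules} (l : J i M ⟶ N) : ∀ n : ℕ, pow i (n + 1) M ⟶ pow i n N
  | 0 => l
  | n + 1 => jMap i (liftPow l n)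

theorem liftPow_comp {M N : X.Modules} (f : N ⟶ M) (l : J i M ⟶ N) (h : l ≫ f = jι i M) :
    ∀ n : ℕ, liftPow i l n ≫ powMap i n f = jι i (pow i n M)
  | 0 => h
  | n + 1 => (jMap_comp i (liftPow i l n) (powMap i n f)).symm.trans
      ((congrArg (jMap i) (liftPow_comp f l h n)).trans (jMap_jι i (pow i n M)))

theorem powMap_liftPow {M N : X.Modules} (f : N ⟶ M) [Mono f] (l : J i M ⟶ N) (h : l ≫ f = jι i M) (n : ℕ) :
    powMap i (n + 1) f ≫ liftPow i l n = jι i (pow i n N) := by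
  haveI := mono_powMap i n f
  refine (cancel_mono (powMap i n f)).1 ?_
  exact (Category.assoc _ _ _).trans ((congrArg (powMap i (n + 1) f ≫ ·) (liftPow_comp i f l h n)).trans
    (jMap_ι i (powMap i n f)))

theorem exists_bound_pow {F : ℕ → X.Modules} {f : ∀ m, F (m + 1) ⟶ F m} (h : Filtr i F f) (x : X) :
    ∃ W : Set X, IsOpen W ∧ x ∈ W ∧ ∃ N : ℕ, ∀ n m, (N ≤ n ∨ N ≤ m) → ∀ y ∈ W,
      Subsingleton ((pow i n (F m)).presheaf.stalk y) := by
  obtain ⟨W₁, hW₁, hx₁, N₁, hN₁⟩ := h.bdd x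
  obtain ⟨W₂, hW₂, hx₂, N₂, hN₂⟩ := exists_bound i h.ps.1 h.ps.2 x
  refine ⟨W₁ ∩ W₂, hW₁.inter hW₂, ⟨hx₁, hx₂⟩, max N₁ N₂, fun n m hnm y hy => ?_⟩
  rcases hnm with hn | hm
  · have key : ∀ m, Subsingleton ((pow i n (F m)).presheaf.stalk y) := fun m => by
      induction m with
      | zero => exact hN₂ n (le_of_max_le_right hn) y hy.2
      | succ m ih =>
        haveI := h.mono m
        haveI := mono_powMap i n (f m)
        exact (stalk_injective_of_mono (powMap i n (f m)) (isCoh_pow i (h.coh _) n).1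
          (isCoh_pow i (h.coh _) n).1 y).subsingleton
    exact key m
  · haveI := hN₁ m (le_of_max_le_left hm) y hy.1
    exact (stalk_injective_of_mono (powι i n (F m)) (isCoh_pow i (h.coh m) n).1 (h.coh m).1 y).subsingleton

/-- The `I`-adic graded and the graded of a filtration have the same class. -/
theorem clSub_gr_eq {F : ℕ → X.Modules} {f : ∀ m, F (m + 1) ⟶ F m} (h : Filtr i F f) :
    KZero.clSub (PK i) (gr i (F 0)) = KZero.clSub (PK i) (∐ fun m : ULift.{u} ℕ => cokernel (f m.down)) := by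
  have := h.mono
  have hc := fun n m => isCoh_pow i (h.coh m) n
  choose l hl using fun m => show ∃ l : J i (F m) ⟶ F (m + 1), l ≫ f m = jι i (F m) from
    ⟨_, (KZ.shortExact_of_mono (f m)).exact.lift_f (jι i (F m))
      (jι_π_eq_zero i (f m) (h.coh _).1 (h.coh m) (h.killed m))⟩
  haveI hmu : ∀ n m, Mono (powMap i n (f m)) := fun n m => mono_powMap i n _
  haveI hml : ∀ n m, Mono (liftPow i (l m) n) := fun n m => by
    haveI : Mono (liftPow i (l m) n ≫ powMap i n (f m)) := by rw [liftPow_comp i (f m) (l m) (hl m) n]; infer_instance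
    exact mono_of_mono _ (powMap i n (f m))
  choose S hS e1 e2 e3 using fun n m =>
    exists_compSeq (liftPow i (l m) n) (powMap i n (f m)) _ (liftPow_comp i (f m) (l m) (hl m) n)
  choose S' hS' e1' e2' e3' using fun n m =>
    exists_compSeq (powMap i (n + 1) (f m)) (liftPow i (l m) n) _ (powMap_liftPow i (f m) (l m) (hl m) n)
  let A : ℕ → ℕ → X.Modules := fun n m => cokernel (powMap i n (f m))
  let B : ℕ → ℕ → X.Modules := fun n m => cokernel (liftPow i (l m) n)
  have hA : ∀ n m, PK i (A n m) := fun n m => by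
    have hco := QCoh.isCoh_cokernel (hc n (m + 1)).1 (hc n m) (powMap i n (f m))
    have := (hS n m).epi_g
    have := pk_of_epi i (S n m).g (by rw [e3]; exact hco) (by rw [e2]; exact pk_K i (h.coh m) n)
    rwa [e3] at this
  have hB : ∀ n m, PK i (B n m) := fun n m => by
    have hco := QCoh.isCoh_cokernel (hc (n + 1) m).1 (hc n (m + 1)) (liftPow i (l m) n)
    have := (hS n m).mono_f
    have := pk_of_mono i (S n m).f (by rw [e1]; exact hco) (by rw [e2]; exact pk_K i (h.coh m) n)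
    rwa [e1] at this
  let ι := ULift.{u} (ℕ × ℕ)
  have hlK : ∀ (G : ι → X.Modules) (s : ℕ), (∀ b y, Nontrivial ((G b).presheaf.stalk y) →
      Nontrivial ((pow i b.down.1 (F (b.down.2 + s))).presheaf.stalk y)) → LocFinSupp G := fun G s hG x => by
    obtain ⟨W, hW, hx, N, hN⟩ := exists_bound_pow i h x
    refine ⟨W, hW, hx, (((Set.finite_Iio N).prod (Set.finite_Iio N)).preimage ULift.down_injective.injOn).subset ?_⟩
    rintro b ⟨y, hy, hn⟩
    by_contra hb
    simp only [Set.mem_preimage, Set.mem_prod, Set.mem_Iio, not_and_or, not_lt] at hb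
    exact not_nontrivial_iff_subsingleton.2 (hN b.down.1 (b.down.2 + s) (hb.imp id fun h => le_add_right h) y hy)
      (hG b y hn)
  have hsurjK : ∀ n m y, Nontrivial ((K i n (F m)).presheaf.stalk y) → Nontrivial ((pow i n (F m)).presheaf.stalk y) :=
    fun n m y hy => by
      haveI := hy
      exact (CycLib.stalk_shortExact (KZ.shortExact_of_mono (jι i (pow i n (F m))))
        (isCoh_J i (hc n m)).1 (hc n m).1 (pk_K i (h.coh m) n).1.1 y).2.2.nontrivial
  let F₂ : ι → X.Modules := fun b => K i b.down.1 (F b.down.2)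
  have hl2 : LocFinSupp F₂ := hlK F₂ 0 fun b y hy => hsurjK _ _ y hy
  have hl2' : LocFinSupp fun b : ι => K i b.down.1 (F (b.down.2 + 1)) := hlK _ 1 fun b y hy => hsurjK _ _ y hy
  have hSX : ∀ b : ι, (S b.down.1 b.down.2).X₂ = F₂ b := fun b => e2 _ _
  have hSX' : ∀ b : ι, (S' b.down.1 b.down.2).X₂ = K i b.down.1 (F (b.down.2 + 1)) := fun b => e2' _ _
  have E1 := clSub_sum (sumClosed_PK i) (fun b : ι => S b.down.1 b.down.2) (fun b => hS _ _)
    (fun b => by rw [e1]; exact hB _ _) (fun b => by rw [e2]; exact pk_K i (h.coh _) _)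
    (fun b => by rw [e3]; exact hA _ _) (by rw [funext hSX]; exact hl2)
  have E2 := clSub_sum (sumClosed_PK i) (fun b : ι => S' b.down.1 b.down.2) (fun b => hS' _ _)
    (fun b => by rw [e1']; exact hA _ _) (fun b => by rw [e2']; exact pk_K i (h.coh _) _)
    (fun b => by rw [e3']; exact hB _ _) (by rw [funext hSX']; exact hl2')
  rw [funext hSX, funext fun b : ι => e1 b.down.1 b.down.2, funext fun b : ι => e3 b.down.1 b.down.2] at E1
  rw [funext hSX', funext fun b : ι => e1' b.down.1 b.down.2, funext fun b : ι => e3' b.down.1 b.down.2] at E2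
  let eK : ULift.{u} ℕ ⊕ ι ≃ ι :=
    { toFun := fun c => Sum.elim (fun n => ⟨(n.down, 0)⟩) (fun b => ⟨(b.down.1, b.down.2 + 1)⟩) c
      invFun := fun b => match b with
        | ⟨(n, 0)⟩ => Sum.inl ⟨n⟩
        | ⟨(n, m + 1)⟩ => Sum.inr ⟨(n, m)⟩
      left_inv := by rintro (⟨n⟩ | ⟨n, m⟩) <;> rfl
      right_inv := by rintro ⟨n, (_ | m)⟩ <;> rfl }
  let eA : ULift.{u} ℕ ⊕ ι ≃ ι :=
    { toFun := fun c => Sum.elim (fun m => ⟨(0, m.down)⟩) (fun b => ⟨(b.down.1 + 1, b.down.2)⟩) c
      invFun := fun b => match b with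
        | ⟨(0, m)⟩ => Sum.inl ⟨m⟩
        | ⟨(n + 1, m)⟩ => Sum.inr ⟨(n, m)⟩
      left_inv := by rintro (⟨m⟩ | ⟨n, m⟩) <;> rfl
      right_inv := by rintro ⟨(_ | n), m⟩ <;> rfl }
  let A₂ : ι → X.Modules := fun b => A b.down.1 b.down.2
  have hlA : LocFinSupp A₂ := hlK A₂ 0 fun b y hy => by
    haveI := hy
    exact (CycLib.stalk_shortExact (KZ.shortExact_of_mono (powMap i b.down.1 (f b.down.2)))
      (hc _ _).1 (hc _ _).1 (hA _ _).1.1 y).2.2.nontrivial
  have E3 := clSub_split (sumClosed_PK i) F₂ (fun b => pk_K i (h.coh _) _) hl2 eK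
  have E4 := clSub_split (sumClosed_PK i) A₂ (fun b => hA _ _) hlA eA
  change KZero.clSub (PK i) (∐ F₂) = KZero.clSub (PK i) (gr i (F 0)) +
    KZero.clSub (PK i) (∐ fun b : ι => K i b.down.1 (F (b.down.2 + 1))) at E3
  change KZero.clSub (PK i) (∐ A₂) = KZero.clSub (PK i) (∐ fun m : ULift.{u} ℕ => cokernel (f m.down)) +
    KZero.clSub (PK i) (∐ fun b : ι => A (b.down.1 + 1) b.down.2) at E4
  change KZero.clSub (PK i) (∐ F₂) = KZero.clSub (PK i) (∐ fun b : ι => B b.down.1 b.down.2) +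
    KZero.clSub (PK i) (∐ A₂) at E1
  change KZero.clSub (PK i) (∐ fun b : ι => K i b.down.1 (F (b.down.2 + 1))) =
    KZero.clSub (PK i) (∐ fun b : ι => A (b.down.1 + 1) b.down.2) +
    KZero.clSub (PK i) (∐ fun b : ι => B b.down.1 b.down.2) at E2
  rw [E3, E2, E4] at E1
  rw [← sub_eq_zero] at E1 ⊢
  exact Eq.trans (by abel) E1

end Groth.Agent.Dev83
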