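import Groth.Agent.KZ.ClosedDev
import Groth.Agent.Symb83.PrinSum

/-! The kernel `J M` of `M → i_* i^* M` and its iterates. -/

set_option autoImplicit false
set_option linter.style.haveILetI false
set_option linter.unusedSectionVars false
set_option backward.isDefEq.respectTransparency false
set_option backward.isDefEq.respectTransparency.types false

universe u

open CategoryTheory CategoryTheory.Limits AlgebraicGeometry TopologicalSpace

namespace Groth.Agent.Symb83

variable {X : Scheme.{u}}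

theorem epi_of_stalk_surjective {M N : X.Modules} (φ : M ⟶ N)
    (h : ∀ x, Function.Surjective (CycLib.stalkLin φ x)) : Epi φ := by
  refine Preadditive.epi_of_cancel_zero _ fun {T} g hg => ?_
  ext U s
  refine TopCat.Presheaf.section_ext (show TopCat.Sheaf AddCommGrpCat.{u} X.toPresheafedSpace.carrier from
    ⟨T.presheaf, T.isSheaf⟩) U _ _ fun x hx => ?_
  obtain ⟨m, hm⟩ := h x (N.presheaf.germ U x hx s)
  have e : CycLib.stalkLin g x (N.presheaf.germ U x hx s) = 0 := by
    rw [← hm, ← stalkLin_comp, hg, stalkLin_zero]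
  exact (CycLib.stalkAdd_germ g x hx s).symm.trans (e.trans (map_zero _).symm)

end Groth.Agent.Symb83

namespace Groth.Agent.Dev83

open Groth.Agent KZ.ClosedDev

variable {X Z : Scheme.{u}} (i : Z ⟶ X) [IsClosedImmersion i]

/-- The unit. -/
noncomputable abbrev unitC (M : X.Modules) :=
  (Scheme.Modules.pullbackPushforwardAdjunction i).unit.app M

/-- The submodule `I • M`. -/
noncomputable def J (M : X.Modules) : X.Modules := kernel (unitC i M)

/-- Its inclusion. -/
noncomputable def jι (M : X.Modules) : J i M ⟶ M := kernel.ι _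

instance (M : X.Modules) : Mono (jι i M) := by unfold jι J; infer_instance

/-- Functoriality. -/
noncomputable def jMap {M N : X.Modules} (φ : M ⟶ N) : J i M ⟶ J i N :=
  kernel.map _ _ φ _ ((Scheme.Modules.pullbackPushforwardAdjunction i).unit.naturality φ).symm

theorem jMap_ι {M N : X.Modules} (φ : M ⟶ N) : jMap i φ ≫ jι i N = jι i M ≫ φ := kernel.lift_ι _ _ _

theorem jMap_comp {L M N : X.Modules} (φ : L ⟶ M) (ψ : M ⟶ N) : jMap i (φ ≫ ψ) = jMap i φ ≫ jMap i ψ := by
  rw [← cancel_mono (jι i N), jMap_ι, Category.assoc, jMap_ι, ← Category.assoc (jMap i φ), jMap_ι,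
    Category.assoc]

theorem jMap_jι (M : X.Modules) : jMap i (jι i M) = jι i (J i M) := by
  rw [← cancel_mono (jι i M), jMap_ι]

theorem jMap_id (M : X.Modules) : jMap i (𝟙 M) = 𝟙 _ := by
  rw [← cancel_mono (jι i M), jMap_ι, Category.id_comp, Category.comp_id]

theorem mono_jMap {M N : X.Modules} (φ : M ⟶ N) [Mono φ] : Mono (jMap i φ) := by
  haveI : Mono (jMap i φ ≫ jι i N) := by rw [jMap_ι]; infer_instance
  exact mono_of_mono _ (jι i N)

variable [IsLocallyNoetherian X]

theorem isCoh_push_pull {M : X.Modules} (hM : Coh.IsCoh M) :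
    Coh.IsCoh ((Scheme.Modules.pushforward i).obj ((Scheme.Modules.pullback i).obj M)) :=
  haveI := LocallyOfFiniteType.isLocallyNoetherian i
  QCoh.isCoh_pushforward_finite i (isCoh_pull i hM)

theorem isCoh_J {M : X.Modules} (hM : Coh.IsCoh M) : Coh.IsCoh (J i M) :=
  QCoh.isCoh_kernel hM (isCoh_push_pull i hM) _

theorem mem_J_app {M : X.Modules} (hM : Coh.IsCoh M) {U : X.Opens} (hU : IsAffineOpen U) (s : Γ(M, U)) :
    (∃ t, (jι i M).app U t = s) ↔ s ∈ i.ker.ideal ⟨U, hU⟩ • (⊤ : Submodule Γ(X, U) Γ(M, U)) := by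
  rw [← (QCoh.unit_app_closed i hM.1 hU).2 s]
  constructor
  · rintro ⟨t, rfl⟩
    rw [show (unitC i M).app U ((jι i M).app U t) = (jι i M ≫ unitC i M).app U t from rfl,
      show jι i M ≫ unitC i M = 0 from kernel.condition _]
    rfl
  · intro h
    exact QCoh.exists_kernel_lift (unitC i M) U s h

theorem killed_coker {M : X.Modules} (hM : Coh.IsCoh M) : Killed i (cokernel (jι i M)) := fun U a ha s => by
  obtain ⟨m, rfl⟩ := QCoh.app_surjective_of_epi hM.1 (QCoh.isQCoh_cokernel (isCoh_J i hM).1 hM.1 _)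
    (cokernel.π (jι i M)) U.2 s
  obtain ⟨t, ht⟩ := (mem_J_app i hM U.2 (a • m)).2 (Submodule.smul_mem_smul ha Submodule.mem_top)
  rw [← Scheme.Modules.Hom.app_smul, ← ht,
    show (cokernel.π (jι i M)).app U.1 ((jι i M).app U.1 t) = (jι i M ≫ cokernel.π (jι i M)).app U.1 t from rfl,
    cokernel.condition]
  rfl

theorem isZero_J {M : X.Modules} (hM : Coh.IsCoh M) (hk : Killed i M) : IsZero (J i M) := by
  haveI := (QCoh.isIso_unit_closed_iff i hM.1).2 hk
  exact isZero_kernel_of_mono (unitC i M)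

theorem jι_π_eq_zero {M N : X.Modules} (f : N ⟶ M) (hN : Coh.IsQCoh N) (hM : Coh.IsCoh M)
    (hk : Killed i (cokernel f)) : jι i M ≫ cokernel.π f = 0 := by
  rw [← jMap_ι, (isZero_J i (QCoh.isCoh_cokernel hN hM f) hk).eq_of_tgt (jMap i (cokernel.π f)) 0, zero_comp]

theorem epi_jMap {M N : X.Modules} (φ : M ⟶ N) [Epi φ] (hM : Coh.IsCoh M) (hN : Coh.IsCoh N) :
    Epi (jMap i φ) := by
  refine Symb83.epi_of_stalk_surjective _ fun y m => ?_
  obtain ⟨U, hU, hy, n, rfl⟩ := CycLib.exists_germ_affine (J i N) m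
  have hn : (jι i N).app U n ∈ i.ker.ideal ⟨U, hU⟩ • (⊤ : Submodule Γ(X, U) Γ(N, U)) :=
    (mem_J_app i hN hU _).1 ⟨n, rfl⟩
  have hle : i.ker.ideal ⟨U, hU⟩ • (⊤ : Submodule Γ(X, U) Γ(N, U)) ≤
      (i.ker.ideal ⟨U, hU⟩ • (⊤ : Submodule Γ(X, U) Γ(M, U))).map (QCoh.appLin φ U) := by
    have hsur : Function.Surjective (QCoh.appLin φ U) := QCoh.app_surjective_of_epi hM.1 hN.1 φ hU
    rw [Submodule.map_smul'', Submodule.map_top, LinearMap.range_eq_top.2 hsur]
  obtain ⟨s, hs, hsn⟩ := hle hn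
  obtain ⟨t, ht⟩ := (mem_J_app i hM hU s).2 hs
  refine ⟨(J i M).presheaf.germ U y hy t, ?_⟩
  show CycLib.stalkAdd (jMap i φ) y _ = _
  rw [CycLib.stalkAdd_germ]
  congr 1
  refine QCoh.app_injective (jι i N) U ?_
  rw [show (jι i N).app U ((jMap i φ).app U t) = (jMap i φ ≫ jι i N).app U t from rfl, jMap_ι]
  exact (congrArg (φ.app U) ht).trans hsn

/-- The iterates. -/
noncomputable def pow : ℕ → X.Modules → X.Modules
  | 0, M => M
  | n + 1, M => J i (pow n M)

/-- Functoriality of the iterates. -/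
noncomputable def powMap : ∀ (n : ℕ) {M N : X.Modules}, (M ⟶ N) → (pow i n M ⟶ pow i n N)
  | 0, _, _, φ => φ
  | n + 1, _, _, φ => jMap i (powMap n φ)

theorem powMap_comp (n : ℕ) {L M N : X.Modules} (φ : L ⟶ M) (ψ : M ⟶ N) :
    powMap i n (φ ≫ ψ) = powMap i n φ ≫ powMap i n ψ := by
  induction n with
  | zero => rfl
  | succ n ih => show jMap i _ = _; rw [ih, jMap_comp]; rfl

theorem powMap_id (n : ℕ) (M : X.Modules) : powMap i n (𝟙 M) = 𝟙 _ := by
  induction n with
  | zero => rfl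
  | succ n ih => show jMap i _ = _; rw [ih, jMap_id]; rfl

theorem mono_powMap (n : ℕ) {M N : X.Modules} (φ : M ⟶ N) [Mono φ] : Mono (powMap i n φ) := by
  induction n with
  | zero => assumption
  | succ n ih => exact mono_jMap i _

theorem isCoh_pow {M : X.Modules} (hM : Coh.IsCoh M) (n : ℕ) : Coh.IsCoh (pow i n M) := by
  induction n with
  | zero => exact hM
  | succ n ih => exact isCoh_J i ih

theorem epi_powMap (n : ℕ) {M N : X.Modules} (φ : M ⟶ N) [Epi φ] (hM : Coh.IsCoh M) (hN : Coh.IsCoh N) :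
    Epi (powMap i n φ) := by
  induction n with
  | zero => assumption
  | succ n ih => exact epi_jMap i _ (isCoh_pow i hM n) (isCoh_pow i hN n)

/-- The inclusion of the iterates. -/
noncomputable def powι : ∀ (n : ℕ) (M : X.Modules), pow i n M ⟶ M
  | 0, M => 𝟙 M
  | n + 1, M => jι i (pow i n M) ≫ powι n M

instance mono_powι (n : ℕ) (M : X.Modules) : Mono (powι i n M) := by
  induction n with
  | zero => exact inferInstanceAs (Mono (𝟙 M))
  | succ n ih => exact mono_comp (jι i (pow i n M)) (powι i n M)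

theorem powι_app_mem {M : X.Modules} (hM : Coh.IsCoh M) {U : X.Opens} (hU : IsAffineOpen U) (n : ℕ)
    (s : Γ(pow i n M, U)) :
    (powι i n M).app U s ∈ i.ker.ideal ⟨U, hU⟩ ^ n • (⊤ : Submodule Γ(X, U) Γ(M, U)) := by
  induction n with
  | zero => rw [pow_zero, Ideal.one_eq_top, Submodule.top_smul]; trivial
  | succ n ih =>
    have h := (mem_J_app i (isCoh_pow i hM n) hU _).1 ⟨s, rfl⟩
    have h2 : QCoh.appLin (powι i n M) U ((jι i (pow i n M)).app U s) ∈
        (i.ker.ideal ⟨U, hU⟩ • (⊤ : Submodule Γ(X, U) Γ(pow i n M, U))).map (QCoh.appLin (powι i n M) U) :=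
      ⟨_, h, rfl⟩
    rw [Submodule.map_smul''] at h2
    refine SetLike.le_def.1 ?_ h2
    rw [pow_succ', Submodule.mul_smul]
    refine Submodule.smul_mono le_rfl ?_
    rintro _ ⟨t, -, rfl⟩
    exact ih t

/-- A coherent module supported on `Z` has locally bounded iterates. -/
theorem exists_bound {M : X.Modules} (hM : Coh.IsCoh M)
    (hs : ∀ x : X, Nontrivial (M.presheaf.stalk x) → x ∈ Set.range i) (x : X) :
    ∃ W : Set X, IsOpen W ∧ x ∈ W ∧ ∃ N : ℕ, ∀ n, N ≤ n → ∀ y ∈ W, Subsingleton ((pow i n M).presheaf.stalk y) := by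
  obtain ⟨U, hU, hx⟩ := QCoh.exists_affine_mem x
  refine ⟨U, U.isOpen, hx, ?_⟩
  have hrad : i.ker.ideal ⟨U, hU⟩ ≤ (Module.annihilator Γ(X, U) Γ(M, U)).radical := fun a ha => by
    haveI := QCoh.finite_sections hM hU
    obtain ⟨g, hg⟩ := Module.Finite.fg_top (R := Γ(X, U)) (M := Γ(M, U))
    have key : ∀ s : Γ(M, U), ∃ k : ℕ, a ^ k • s = 0 := fun s => by
      refine QCoh.exists_pow_smul_eq_zero hM.1 hU a s ?_
      refine TopCat.Presheaf.section_ext (show TopCat.Sheaf AddCommGrpCat.{u} X.toPresheafedSpace.carrier from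
        ⟨M.presheaf, M.isSheaf⟩) (X.basicOpen a) _ _ fun y hy => ?_
      haveI : Subsingleton (M.presheaf.stalk y) := not_nontrivial_iff_subsingleton.1 fun hn => by
        obtain ⟨z, hz⟩ := hs y hn
        rw [Scheme.Hom.ker_apply, RingHom.mem_ker] at ha
        have h1 : z ∈ i ⁻¹ᵁ X.basicOpen a := by show i z ∈ X.basicOpen a; rw [hz]; exact hy
        rw [Scheme.preimage_basicOpen, ha, Scheme.basicOpen_zero] at h1
        exact h1
      exact Subsingleton.elim (α := M.presheaf.stalk y) _ _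
    choose k hk using key
    refine ⟨g.sup k, Module.mem_annihilator.2 fun s => ?_⟩
    have hle : Submodule.span Γ(X, U) (g : Set Γ(M, U)) ≤
        LinearMap.ker (DistribSMul.toLinearMap Γ(X, U) Γ(M, U) (a ^ g.sup k)) := by
      refine Submodule.span_le.2 fun t ht => ?_
      obtain ⟨c, hc⟩ := Nat.exists_eq_add_of_le (Finset.le_sup (f := k) ht)
      show a ^ g.sup k • t = 0
      rw [hc, add_comm, pow_add, mul_smul, hk t, smul_zero]
    exact hle (hg.ge (trivial : s ∈ (⊤ : Submodule Γ(X, U) Γ(M, U))))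
  haveI : IsNoetherianRing Γ(X, U) := IsLocallyNoetherian.component_noetherian ⟨U, hU⟩
  obtain ⟨N, hN⟩ := Ideal.exists_pow_le_of_le_radical_of_fg hrad (IsNoetherian.noetherian _)
  refine ⟨N, fun n hn y hy => ?_⟩
  have h0 : ∀ s : Γ(pow i n M, U), s = 0 := fun s => QCoh.app_injective (powι i n M) U (by
    rw [map_zero]
    refine (Submodule.mem_bot Γ(X, U)).1 (SetLike.le_def.1 ?_ (powι_app_mem i hM hU n s))
    refine Submodule.smul_le.2 fun r hr t _ => (Submodule.mem_bot _).2 ?_
    exact Module.mem_annihilator.1 (hN (Ideal.pow_le_pow_right hn hr)) t)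
  letI := QCoh.stalkModule (pow i n M) hy
  haveI := QCoh.isLocalizedModule_germLin (isCoh_pow i hM n).1 hU hy
  refine subsingleton_of_forall_eq 0 fun m => ?_
  obtain ⟨⟨s, c⟩, hc⟩ := IsLocalizedModule.surj (hU.primeIdealOf ⟨y, hy⟩).asIdeal.primeCompl
    (QCoh.germLin (pow i n M) hy) m
  rw [h0 s, map_zero] at hc
  exact ((Module.End.isUnit_iff _).1 (IsLocalizedModule.map_units (QCoh.germLin (pow i n M) hy) c)).1
    (hc.trans (map_zero _).symm)

end Groth.Agent.Dev83
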