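import Groth.Agent.Dev83.Gr
import Groth.Agent.KFlatLib.Scheme.ClosedPush

/-! Dévissage along a closed immersion into a locally Noetherian scheme. -/

set_option autoImplicit false
set_option linter.style.haveILetI false
set_option linter.unusedSectionVars false
set_option linter.unusedVariables false
set_option backward.isDefEq.respectTransparency false
set_option backward.isDefEq.respectTransparency.types false

universe u

open CategoryTheory CategoryTheory.Limits AlgebraicGeometry TopologicalSpace ZeroObject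

namespace Groth.Agent.Dev83

open Groth.Agent KZ.ClosedDev Symb83

variable {X Z : Scheme.{u}} (i : Z ⟶ X) [IsClosedImmersion i]

/-- A sum over a point. -/
noncomputable def sigmaPUnitIso (F : PUnit.{u + 1} → X.Modules) : (∐ F) ≅ F PUnit.unit where
  hom := Sigma.desc fun ⟨⟩ => 𝟙 _
  inv := Sigma.ι F PUnit.unit
  hom_inv_id := Sigma.hom_ext _ _ fun ⟨⟩ => by rw [Sigma.ι_desc_assoc]; simp
  inv_hom_id := by rw [Sigma.ι_desc]

theorem isZero_sigma {ι : Type u} (F : ι → X.Modules) (h : ∀ b, IsZero (F b)) : IsZero (∐ F) :=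
  (IsZero.iff_id_eq_zero _).2 (Sigma.hom_ext _ _ fun b => (h b).eq_of_src _ _)

variable [IsLocallyNoetherian X]

/-- Functoriality for isomorphisms. -/
noncomputable def powIso (n : ℕ) {M N : X.Modules} (e : M ≅ N) : pow i n M ≅ pow i n N where
  hom := powMap i n e.hom
  inv := powMap i n e.inv
  hom_inv_id := by rw [← powMap_comp, e.hom_inv_id, powMap_id]
  inv_hom_id := by rw [← powMap_comp, e.inv_hom_id, powMap_id]

/-- The graded module of an isomorphic module. -/
noncomputable def grIso {M N : X.Modules} (e : M ≅ N) : gr i M ≅ gr i N :=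
  Limits.Sigma.mapIso fun n => cokernel.mapIso _ _ (powIso i (n.down + 1) e) (powIso i n.down e)
    (jMap_ι i (powMap i n.down e.hom)).symm

theorem pk_zero : PK i (0 : X.Modules) := ⟨KZ.isCoh_zero, Killed.of_isZero i (isZero_zero _)⟩

theorem ps_zero : PS i (0 : X.Modules) := pk_le_ps i (pk_zero i)

theorem locFinSupp_K {M : X.Modules} (hM : PS i M) : LocFinSupp fun n : ULift.{u} ℕ => K i n.down M := fun x => by
  obtain ⟨W, hW, hx, N, hN⟩ := exists_bound i hM.1 hM.2 x
  refine ⟨W, hW, hx, ((Set.finite_Iio N).preimage ULift.down_injective.injOn).subset ?_⟩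
  rintro n ⟨y, hy, hn⟩
  by_contra h
  simp only [Set.mem_preimage, Set.mem_Iio, not_lt] at h
  haveI := hN n.down h y hy
  exact not_nontrivial_iff_subsingleton.2 (CycLib.stalk_shortExact (KZ.shortExact_of_mono (jι i (pow i n.down M)))
    (isCoh_J i (isCoh_pow i hM.1 _)).1 (isCoh_pow i hM.1 _).1 (pk_K i hM.1 _).1.1 y).2.2.subsingleton hn

theorem pk_gr {M : X.Modules} (hM : PS i M) : PK i (gr i M) :=
  (sumClosed_PK i).2 _ (fun n => pk_K i hM.1 _) (locFinSupp_K i hM)

/-- The graded class is additive. -/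
theorem clSub_gr_add {S : ShortComplex X.Modules} (hS : S.ShortExact) (h₁ : PS i S.X₁) (h₂ : PS i S.X₂)
    (h₃ : PS i S.X₃) :
    KZero.clSub (PK i) (gr i S.X₂) = KZero.clSub (PK i) (gr i S.X₁) + KZero.clSub (PK i) (gr i S.X₃) := by
  haveI := hS.mono_f
  haveI := hS.epi_g
  haveI : ∀ n, Epi (powMap i n S.g) := fun n => epi_powMap i n S.g h₂.1 h₃.1
  let F : ℕ → X.Modules := fun n => kernel (powMap i n S.g)
  let f : ∀ n, F (n + 1) ⟶ F n := fun n =>
    kernel.map _ _ (jι i (pow i n S.X₂)) (jι i (pow i n S.X₃)) (jMap_ι i (powMap i n S.g))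
  have hf : ∀ n, f n ≫ kernel.ι _ = kernel.ι _ ≫ jι i (pow i n S.X₂) := fun n => kernel.lift_ι _ _ _
  have hFc : ∀ n, Coh.IsCoh (F n) := fun n => QCoh.isCoh_kernel (isCoh_pow i h₂.1 n) (isCoh_pow i h₃.1 n) _
  haveI hfm : ∀ n, Mono (f n) := fun n => by
    haveI : Mono (f n ≫ kernel.ι _) := by rw [hf]; infer_instance
    exact mono_of_mono _ (kernel.ι (powMap i n S.g))
  have hrows : ∀ n, ∃ R : ShortComplex X.Modules, R.ShortExact ∧ R.X₁ = cokernel (f n) ∧ R.X₂ = K i n S.X₂ ∧
      R.X₃ = K i n S.X₃ := fun n => by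
    let φ : ShortComplex.mk (kernel.ι (powMap i (n + 1) S.g)) (powMap i (n + 1) S.g) (kernel.condition _) ⟶
        ShortComplex.mk (kernel.ι (powMap i n S.g)) (powMap i n S.g) (kernel.condition _) :=
      { τ₁ := f n, τ₂ := jι i (pow i n S.X₂), τ₃ := jι i (pow i n S.X₃)
        comm₁₂ := hf n
        comm₂₃ := (jMap_ι i (powMap i n S.g)).symm }
    haveI : Mono φ.τ₁ := hfm n
    haveI : Mono φ.τ₂ := inferInstanceAs (Mono (jι i (pow i n S.X₂)))
    haveI : Mono φ.τ₃ := inferInstanceAs (Mono (jι i (pow i n S.X₃)))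
    exact exists_cokerSeq (KZ.kerSeq_shortExact (powMap i (n + 1) S.g)) (KZ.kerSeq_shortExact (powMap i n S.g)) φ
  choose R hR e1 e2 e3 using hrows
  have hkill : ∀ n, PK i (cokernel (f n)) := fun n => by
    have := (hR n).mono_f
    have h := pk_of_mono i (R n).f (by rw [e1]; exact QCoh.isCoh_cokernel (hFc _).1 (hFc n) (f n))
      (by rw [e2]; exact pk_K i h₂.1 n)
    rwa [e1] at h
  have hF : Filtr i F f :=
    { ps := ps_of_mono i (kernel.ι (powMap i 0 S.g)) (hFc 0) h₂
      coh := hFc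
      mono := hfm
      killed := fun n => (hkill n).2
      bdd := fun x => by
        obtain ⟨W, hW, hx, N, hN⟩ := exists_bound i h₂.1 h₂.2 x
        refine ⟨W, hW, hx, N, fun n hn y hy => ?_⟩
        haveI := hN n hn y hy
        exact (stalk_injective_of_mono (kernel.ι (powMap i n S.g)) (hFc n).1 (isCoh_pow i h₂.1 n).1 y).subsingleton }
  let e₀ : S.X₁ ≅ F 0 :=
    (show S.X₁ ≅ kernel S.g from IsLimit.conePointUniqueUpToIso hS.fIsKernel (limit.isLimit _))
  have hb : ∀ b : ULift.{u} ℕ, (R b.down).X₂ = K i b.down S.X₂ := fun b => e2 _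
  have E := clSub_sum (sumClosed_PK i) (fun b : ULift.{u} ℕ => R b.down) (fun b => hR _)
    (fun b => by rw [e1]; exact hkill _) (fun b => by rw [e2]; exact pk_K i h₂.1 _)
    (fun b => by rw [e3]; exact pk_K i h₃.1 _) (by rw [funext hb]; exact locFinSupp_K i h₂)
  rw [funext hb, funext fun b : ULift.{u} ℕ => e1 b.down, funext fun b : ULift.{u} ℕ => e3 b.down] at E
  rw [KZ.clSub_iso (PK i) (grIso i e₀) (pk_gr i h₁) (pk_gr i hF.ps) (isZero_zero _) (pk_zero i),
    clSub_gr_eq i hF]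
  exact E

/-- The graded module has the class of the module. -/
theorem clSub_gr_ps {M : X.Modules} (hM : PS i M) :
    KZero.clSub (PS i) (gr i M) = KZero.clSub (PS i) M := by
  let T := fun n : ULift.{u} ℕ => KZ.shortExact_of_mono (jι i (pow i n.down M))
  have hP : ∀ n, PS i (pow i n M) := fun n => ps_of_mono i (powι i n M) (isCoh_pow i hM.1 n) hM
  have hl : LocFinSupp fun n : ULift.{u} ℕ => pow i n.down M := fun x => by
    obtain ⟨W, hW, hx, N, hN⟩ := exists_bound i hM.1 hM.2 x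
    refine ⟨W, hW, hx, ((Set.finite_Iio N).preimage ULift.down_injective.injOn).subset ?_⟩
    rintro n ⟨y, hy, hn⟩
    by_contra h
    simp only [Set.mem_preimage, Set.mem_Iio, not_lt] at h
    exact not_nontrivial_iff_subsingleton.2 (hN n.down h y hy) hn
  have E := clSub_sum (sumClosed_PS i) (fun n : ULift.{u} ℕ =>
      ShortComplex.mk (jι i (pow i n.down M)) (cokernel.π _) (cokernel.condition _)) T
    (fun n => hP (n.down + 1)) (fun n => hP n.down) (fun n => pk_le_ps i (pk_K i hM.1 _)) hl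
  let e : PUnit.{u + 1} ⊕ ULift.{u} ℕ ≃ ULift.{u} ℕ :=
    { toFun := fun c => Sum.elim (fun _ => ⟨0⟩) (fun b => ⟨b.down + 1⟩) c
      invFun := fun b => match b with
        | ⟨0⟩ => Sum.inl PUnit.unit
        | ⟨n + 1⟩ => Sum.inr ⟨n⟩
      left_inv := by rintro (⟨⟩ | ⟨n⟩) <;> rfl
      right_inv := by rintro ⟨_ | n⟩ <;> rfl }
  have E2 := clSub_split (sumClosed_PS i) (fun n : ULift.{u} ℕ => pow i n.down M) (fun n => hP _) hl e
  have h1 : PS i (∐ fun a : PUnit.{u + 1} => pow i (e (Sum.inl a)).down M) :=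
    (sumClosed_PS i).2 _ (fun a => hP _) fun x => ⟨Set.univ, isOpen_univ, trivial, Set.toFinite _⟩
  rw [KZ.clSub_iso (PS i) (sigmaPUnitIso fun a : PUnit.{u + 1} => pow i (e (Sum.inl a)).down M) h1
    (hP _) (isZero_zero _) (ps_zero i)] at E2
  change KZero.clSub (PS i) (∐ fun n : ULift.{u} ℕ => pow i n.down M) = KZero.clSub (PS i) M +
    KZero.clSub (PS i) (∐ fun n : ULift.{u} ℕ => pow i (n.down + 1) M) at E2
  change KZero.clSub (PS i) (∐ fun n : ULift.{u} ℕ => pow i n.down M) =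
    KZero.clSub (PS i) (∐ fun n : ULift.{u} ℕ => pow i (n.down + 1) M) + KZero.clSub (PS i) (gr i M) at E
  rw [E2, add_comm] at E
  exact (add_left_cancel E).symm

/-- The graded module of a killed module. -/
theorem clSub_gr_pk {M : X.Modules} (hM : PK i M) :
    KZero.clSub (PK i) (gr i M) = KZero.clSub (PK i) M := by
  have hP := pk_le_ps i hM
  have hz : ∀ n, IsZero (pow i (n + 1) M) := fun n => by
    induction n with
    | zero => exact isZero_J i hM.1 hM.2
    | succ n ih => exact isZero_J i (isCoh_pow i hM.1 _) (Killed.of_isZero i ih)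
  let e : PUnit.{u + 1} ⊕ ULift.{u} ℕ ≃ ULift.{u} ℕ :=
    { toFun := fun c => Sum.elim (fun _ => ⟨0⟩) (fun b => ⟨b.down + 1⟩) c
      invFun := fun b => match b with
        | ⟨0⟩ => Sum.inl PUnit.unit
        | ⟨n + 1⟩ => Sum.inr ⟨n⟩
      left_inv := by rintro (⟨⟩ | ⟨n⟩) <;> rfl
      right_inv := by rintro ⟨_ | n⟩ <;> rfl }
  have E := clSub_split (sumClosed_PK i) (fun n : ULift.{u} ℕ => K i n.down M) (fun n => pk_K i hM.1 _)
    (locFinSupp_K i hP) e
  change KZero.clSub (PK i) (gr i M) = KZero.clSub (PK i) (∐ fun _ : PUnit.{u + 1} => K i 0 M) +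
    KZero.clSub (PK i) (∐ fun n : ULift.{u} ℕ => K i (n.down + 1) M) at E
  have hzero : IsZero (∐ fun n : ULift.{u} ℕ => K i (n.down + 1) M) :=
    isZero_sigma _ fun n => IsZero.of_epi (cokernel.π _) (hz n.down)
  have hι : jι i (pow i 0 M) = 0 := (hz 0).eq_of_src _ _
  let e0 : K i 0 M ≅ M := cokernelIsoOfEq hι ≪≫ cokernelZeroIsoTarget
  rw [KZ.clSub_isZero _ hzero, add_zero] at E
  rw [E, KZ.clSub_iso (PK i) (sigmaPUnitIso (fun _ : PUnit.{u + 1} => K i 0 M) ≪≫ e0)
    ((sumClosed_PK i).2 _ (fun _ => pk_K i hM.1 _) fun x => ⟨Set.univ, isOpen_univ, trivial, Set.toFinite _⟩)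
    hM (isZero_zero _) (pk_zero i)]

/-- Dévissage. -/
theorem devissage : ∃ φ : KZero.K0sub (PK i) ≃+ KZero.K0sub (PS i),
    ∀ M, PK i M → φ (KZero.clSub (PK i) M) = KZero.clSub (PS i) M := by
  obtain ⟨f, hf⟩ := KZ.exists_liftSub (PK i) (fun M => KZero.clSub (PS i) M) fun S hS a b c =>
    KZ.clSub_ses (PS i) hS (pk_le_ps i a) (pk_le_ps i b) (pk_le_ps i c)
  obtain ⟨g, hg⟩ := KZ.exists_liftSub (PS i) (fun M => KZero.clSub (PK i) (gr i M)) fun S hS a b c =>
    clSub_gr_add i hS a b c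
  refine ⟨AddMonoidHom.toAddEquiv f g (KZ.K0sub_hom_ext _ fun M hM => ?_) (KZ.K0sub_hom_ext _ fun M hM => ?_),
    fun M hM => hf M hM⟩
  · rw [AddMonoidHom.comp_apply, hf M hM, hg M (pk_le_ps i hM), AddMonoidHom.id_apply, clSub_gr_pk i hM]
  · rw [AddMonoidHom.comp_apply, hg M hM, hf _ (pk_gr i hM), AddMonoidHom.id_apply, clSub_gr_ps i hM]

/-- `K₀(Coh Z) = K₀(Coh_Z X)`. -/
theorem devissage_push : ∃ φ : KZero.K0sub (fun F : Z.Modules => Coh.IsCoh F) ≃+ KZero.K0sub (PS i),
    ∀ F : Z.Modules, Coh.IsCoh F →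
      φ (KZero.clSub (fun F : Z.Modules => Coh.IsCoh F) F) = KZero.clSub (PS i) ((Coh.push i).obj F) := by
  haveI : IsLocallyNoetherian Z := LocallyOfFiniteType.isLocallyNoetherian i
  haveI : PreservesFiniteColimits (Scheme.Modules.pushforward i) :=
    ⟨fun J _ _ => KFlatLib.preservesColimitsOfShape_push i J⟩
  haveI : PreservesFiniteLimits (Scheme.Modules.pushforward i) :=
    haveI := (Scheme.Modules.pullbackPushforwardAdjunction i).rightAdjoint_preservesLimits
    inferInstance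
  haveI : (Scheme.Modules.pushforward i).Faithful := ⟨fun {A B} {f g} h => push_map_injective i f g h⟩
  have hi : ∀ M : Z.Modules, Coh.IsCoh M → Coh.IsCoh ((Scheme.Modules.pushforward i).obj M) :=
    fun M hM => QCoh.isCoh_pushforward_finite i hM
  obtain ⟨ψ, hψ⟩ := KZ.exists_equiv_sub (Scheme.Modules.pushforward i) (fun M : Z.Modules => Coh.IsCoh M) (PK i)
    (fun M hM => ⟨hi M hM, killed_push i M⟩) (fun M N hM _ => push_map_bijective i (hi M hM).1)
    (fun S _ _ _ hS => by
      exact .mk' ((ShortComplex.exact_map_iff_of_faithful S _).1 hS.exact)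
        ((Scheme.Modules.pushforward i).mono_of_mono_map hS.mono_f)
        ((Scheme.Modules.pushforward i).epi_of_epi_map hS.epi_g))
    (fun M hM => by
      have := (QCoh.isIso_unit_closed_iff i hM.1.1).2 hM.2
      exact ⟨_, isCoh_pull i hM.1,
        ⟨(asIso ((Scheme.Modules.pullbackPushforwardAdjunction i).unit.app M)).symm⟩⟩)
    ⟨0, isZero_zero _, KZ.isCoh_zero⟩
  obtain ⟨φ, hφ⟩ := devissage i
  refine ⟨ψ.trans φ, fun F hF => ?_⟩
  rw [AddEquiv.trans_apply, hψ F hF, hφ _ ⟨hi F hF, killed_push i F⟩]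

end Groth.Agent.Dev83
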